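import Mathlib

/-!
The number of decompositions of a symplectic space over a prime field of odd order into
orthogonal planes is odd.
-/

set_option autoImplicit false
set_option linter.unusedSectionVars false

namespace H58.DL

universe w

open Module

variable {r : ℕ} [Fact r.Prime] {X : Type w} [AddCommGroup X] [Module (ZMod r) X] [Finite X]
variable (B : X →ₗ[ZMod r] X →ₗ[ZMod r] ZMod r)

/-- No vector of the subspace is orthogonal to all of it. -/
def NonDeg (Y : Submodule (ZMod r) X) : Prop := ∀ y ∈ Y, (∀ z ∈ Y, B y z = 0) → y = 0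

/-- The orthogonal of a subspace. -/
def perp (P : Submodule (ZMod r) X) : Submodule (ZMod r) X :=
  ⨅ p : P, LinearMap.ker (B (p : X))

theorem mem_perp {P : Submodule (ZMod r) X} {x : X} : x ∈ perp B P ↔ ∀ p ∈ P, B p x = 0 := by
  simp [perp, Submodule.mem_iInf]

/-- A decomposition of `Y` into orthogonal nondegenerate planes. -/
structure IsDec (Y : Submodule (ZMod r) X) (s : Finset (Submodule (ZMod r) X)) : Prop where
  rank : ∀ P ∈ s, finrank (ZMod r) P = 2
  le : ∀ P ∈ s, P ≤ Y
  nd : ∀ P ∈ s, NonDeg B P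
  orth : ∀ P ∈ s, ∀ Q ∈ s, P ≠ Q → ∀ a ∈ P, ∀ b ∈ Q, B a b = 0
  span : Y ≤ s.sup id

/-- The decompositions of `Y`. -/
noncomputable def decs (Y : Submodule (ZMod r) X) : Finset (Finset (Submodule (ZMod r) X)) :=
  (Set.toFinite {s | IsDec B Y s}).toFinset

theorem mem_decs {Y : Submodule (ZMod r) X} {s : Finset (Submodule (ZMod r) X)} :
    s ∈ decs B Y ↔ IsDec B Y s := Set.Finite.mem_toFinset _

/-- The pairs with value one in `Y`. -/
noncomputable def pairs (Y : Submodule (ZMod r) X) : Finset (X × X) :=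
  (Set.toFinite {p : X × X | p.1 ∈ Y ∧ p.2 ∈ Y ∧ B p.1 p.2 = 1}).toFinset

theorem mem_pairs {Y : Submodule (ZMod r) X} {p : X × X} :
    p ∈ pairs B Y ↔ p.1 ∈ Y ∧ p.2 ∈ Y ∧ B p.1 p.2 = 1 := Set.Finite.mem_toFinset _

variable {B}

theorem neg_swap (hB : ∀ x, B x x = 0) (x y : X) : B y x = -B x y := by
  have h := hB (x + y)
  simp only [map_add, LinearMap.add_apply, hB, zero_add, add_zero] at h
  exact eq_neg_of_add_eq_zero_left h

theorem exists_one {Y : Submodule (ZMod r) X} (hY : NonDeg B Y) {u : X} (hu : u ∈ Y)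
    (hu0 : u ≠ 0) : ∃ v ∈ Y, B u v = 1 := by
  by_contra hcon
  push Not at hcon
  refine hu0 (hY u hu fun z hz => ?_)
  by_contra hne
  refine hcon ((B u z)⁻¹ • z) (Submodule.smul_mem _ _ hz) ?_
  rw [map_smul, smul_eq_mul, inv_mul_cancel₀ hne]

theorem card_submodule (Y : Submodule (ZMod r) X) : Nat.card Y = r ^ finrank (ZMod r) Y := by
  rw [Module.natCard_eq_pow_finrank (K := ZMod r), Nat.card_zmod]

theorem card_pairs {Y : Submodule (ZMod r) X} (hY : NonDeg B Y) :
    (pairs B Y).card * r = (r ^ finrank (ZMod r) Y - 1) * r ^ finrank (ZMod r) Y := by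
  classical
  set U := (Set.toFinite {u : X | u ∈ Y ∧ u ≠ 0}).toFinset with hU
  have hmap : ∀ p ∈ pairs B Y, p.1 ∈ U := by
    intro p hp
    rw [mem_pairs] at hp
    simp only [hU, Set.Finite.mem_toFinset, Set.mem_ofPred_eq]
    refine ⟨hp.1, fun h => ?_⟩
    rw [h, map_zero, LinearMap.zero_apply] at hp
    exact zero_ne_one hp.2.2
  rw [Finset.card_eq_sum_card_fiberwise (f := Prod.fst) hmap, Finset.sum_mul]
  have hfib : ∀ u ∈ U, ((pairs B Y).filter fun p => p.1 = u).card * r =
      r ^ finrank (ZMod r) Y := by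
    intro u hu
    simp only [hU, Set.Finite.mem_toFinset, Set.mem_ofPred_eq] at hu
    obtain ⟨v₁, hv₁, huv⟩ := exists_one hY hu.1 hu.2
    let S := {v : X // v ∈ Y ∧ B u v = 1}
    have hS : ((pairs B Y).filter fun p => p.1 = u).card = Nat.card S := by
      rw [← Nat.card_eq_finsetCard]
      refine Nat.card_congr ⟨fun p => ⟨p.1.2, ?_⟩, fun v => ⟨(u, v.1), ?_⟩, ?_, fun v => rfl⟩
      · have h := p.2
        rw [Finset.mem_filter, mem_pairs] at h
        exact ⟨h.1.2.1, Eq.trans (congrArg (fun a => B a p.1.2) h.2.symm) h.1.2.2⟩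
      · rw [Finset.mem_filter, mem_pairs]
        exact ⟨⟨hu.1, v.2.1, v.2.2⟩, rfl⟩
      · intro p
        have h := p.2
        rw [Finset.mem_filter] at h
        exact Subtype.ext (Prod.ext h.2.symm rfl)
    have e : S × ZMod r ≃ Y :=
      { toFun := fun p => ⟨(p.1 : X) + p.2 • v₁, add_mem p.1.2.1 (Submodule.smul_mem _ _ hv₁)⟩
        invFun := fun y => (⟨(y : X) - (B u y - 1) • v₁,
          sub_mem y.2 (Submodule.smul_mem _ _ hv₁),
          by rw [map_sub, map_smul, huv, smul_eq_mul, mul_one, sub_sub_cancel]⟩, B u y - 1)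
        left_inv := fun p => by
          have h : B u ((p.1 : X) + p.2 • v₁) - 1 = p.2 := by
            rw [map_add, map_smul, huv, smul_eq_mul, mul_one, p.1.2.2, add_sub_cancel_left]
          refine Prod.ext (Subtype.ext ?_) h
          show (p.1 : X) + p.2 • v₁ - (B u ((p.1 : X) + p.2 • v₁) - 1) • v₁ = p.1
          rw [h, add_sub_cancel_right]
        right_inv := fun y => Subtype.ext (sub_add_cancel (y : X) ((B u (y : X) - 1) • v₁)) }
    rw [hS, ← card_submodule, ← Nat.card_congr e, Nat.card_prod, Nat.card_zmod]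
  rw [Finset.sum_congr rfl hfib, Finset.sum_const, smul_eq_mul]
  congr 1
  rw [← card_submodule, ← Nat.card_eq_finsetCard]
  have h1 : Nat.card U + 1 = Nat.card Y := by
    have e : Option U ≃ Y :=
      { toFun := fun o => o.elim 0 fun u => ⟨u.1, by
          have := u.2; simp only [hU, Set.Finite.mem_toFinset, Set.mem_ofPred_eq] at this
          exact this.1⟩
        invFun := fun y => if h : y = 0 then none else some ⟨y.1, by
          simp only [hU, Set.Finite.mem_toFinset, Set.mem_ofPred_eq]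
          exact ⟨y.2, fun h0 => h (Subtype.ext h0)⟩⟩
        left_inv := fun o => by
          rcases o with _ | u
          · simp
          · have := u.2
            simp only [hU, Set.Finite.mem_toFinset, Set.mem_ofPred_eq] at this
            simp [Subtype.ext_iff, this.2]
        right_inv := fun y => by
          by_cases h : y = 0 <;> simp [h] }
    rw [← Nat.card_congr e, Finite.card_option]
  omega

theorem span_pair_split (hB : ∀ x, B x x = 0) {u v : X} (huv : B u v = 1) (x : X) :
    (-B v x) • u + (B u x) • v ∈ Submodule.span (ZMod r) {u, v} ∧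
      x - ((-B v x) • u + (B u x) • v) ∈ perp B (Submodule.span (ZMod r) {u, v}) := by
  refine ⟨Submodule.mem_span_pair.mpr ⟨_, _, rfl⟩, (mem_perp B).mpr fun p hp => ?_⟩
  obtain ⟨a, b, rfl⟩ := Submodule.mem_span_pair.mp hp
  have hvu : B v u = -1 := by rw [neg_swap hB u v, huv]
  simp only [map_add, map_sub, map_smul, LinearMap.add_apply, LinearMap.smul_apply, hB, huv, hvu,
    smul_eq_mul]
  ring

theorem finrank_pair (hB : ∀ x, B x x = 0) {u v : X} (huv : B u v = 1) :
    finrank (ZMod r) (Submodule.span (ZMod r) ({u, v} : Set X)) = 2 := by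
  have hli : LinearIndependent (ZMod r) ![u, v] := by
    rw [LinearIndependent.pair_iff]
    intro s t h
    have h1 := congrArg (B u) h
    have h2 := congrArg (B v) h
    simp only [map_add, map_smul, hB, huv, neg_swap hB u v, map_zero, smul_eq_mul] at h1 h2
    constructor
    · linear_combination -h2
    · linear_combination h1
  have h := finrank_span_eq_card hli
  rwa [Matrix.range_cons, Matrix.range_cons, Matrix.range_empty, Set.union_empty,
    Set.singleton_union, Fintype.card_fin] at h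

theorem nonDeg_pair (hB : ∀ x, B x x = 0) {u v : X} (huv : B u v = 1) :
    NonDeg B (Submodule.span (ZMod r) {u, v}) := by
  intro y hy h
  obtain ⟨a, b, rfl⟩ := Submodule.mem_span_pair.mp hy
  have h1 := h v (Submodule.subset_span (by simp))
  have h2 := h u (Submodule.subset_span (by simp))
  simp only [map_add, map_smul, LinearMap.add_apply, LinearMap.smul_apply, hB, huv,
    neg_swap hB u v, smul_eq_mul] at h1 h2
  rw [show a = 0 by linear_combination h1, show b = 0 by linear_combination -h2, zero_smul,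
    zero_smul, add_zero]

/-- A nondegenerate plane splits off. -/
theorem split_plane (hB : ∀ x, B x x = 0) {Y P : Submodule (ZMod r) X} (hY : NonDeg B Y)
    (hP : NonDeg B P) (hP2 : finrank (ZMod r) P = 2) (hPY : P ≤ Y) :
    NonDeg B (Y ⊓ perp B P) ∧ finrank (ZMod r) ↥(Y ⊓ perp B P) + 2 = finrank (ZMod r) Y ∧
      Y ≤ P ⊔ (Y ⊓ perp B P) := by
  have hP0 : P ≠ ⊥ := fun h => by rw [h, finrank_bot] at hP2; omega
  obtain ⟨u, hu, hu0⟩ := Submodule.exists_mem_ne_zero_of_ne_bot hP0
  obtain ⟨v, hv, huv⟩ := exists_one hP hu hu0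
  have hPs : Submodule.span (ZMod r) {u, v} = P := by
    refine Submodule.eq_of_le_of_finrank_le ?_ (by rw [hP2, finrank_pair hB huv])
    rw [Submodule.span_le]
    exact Set.insert_subset hu (Set.singleton_subset_iff.mpr hv)
  have hsup : Y ≤ P ⊔ (Y ⊓ perp B P) := by
    intro x hx
    obtain ⟨h1, h2⟩ := span_pair_split hB huv x
    rw [hPs] at h1 h2
    exact Submodule.mem_sup.mpr ⟨_, h1, _, ⟨sub_mem hx (hPY h1), h2⟩, add_sub_cancel _ _⟩
  refine ⟨fun y hy h => hY y hy.1 fun z hz => ?_, ?_, hsup⟩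
  · obtain ⟨p, hp, q, hq, rfl⟩ := Submodule.mem_sup.mp (hsup hz)
    rw [map_add, h q hq, add_zero, neg_swap hB p y, (mem_perp B).mp hy.2 p hp, neg_zero]
  · have hinf : P ⊓ (Y ⊓ perp B P) = ⊥ := by
      rw [eq_bot_iff]
      rintro x ⟨hxP, -, hxQ⟩
      refine (Submodule.mem_bot _).mpr (hP x hxP fun z hz => ?_)
      rw [neg_swap hB z x, (mem_perp B).mp hxQ z hz, neg_zero]
    have h := Submodule.finrank_sup_add_finrank_inf_eq P (Y ⊓ perp B P)
    rw [hinf, finrank_bot, add_zero, le_antisymm (sup_le hPY inf_le_left) hsup, hP2] at h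
    omega

theorem card_with_plane (hB : ∀ x, B x x = 0) {Y P : Submodule (ZMod r) X} (hY : NonDeg B Y)
    (hP : NonDeg B P) (hP2 : finrank (ZMod r) P = 2) (hPY : P ≤ Y)
    [DecidableEq (Submodule (ZMod r) X)] :
    (∀ s ∈ decs B Y, P ∈ s → s.erase P ∈ decs B (Y ⊓ perp B P)) ∧
      ((decs B Y).filter fun s => P ∈ s).card = (decs B (Y ⊓ perp B P)).card := by
  have hP0 : P ≠ ⊥ := fun h => by rw [h, finrank_bot] at hP2; omega
  have herase : ∀ s ∈ decs B Y, P ∈ s → s.erase P ∈ decs B (Y ⊓ perp B P) := by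
    intro s hs hPs
    rw [mem_decs] at hs ⊢
    have hle : ∀ Q ∈ s.erase P, Q ≤ Y ⊓ perp B P := fun Q hQ x hx =>
      ⟨hs.le Q (Finset.mem_of_mem_erase hQ) hx, (mem_perp B).mpr fun p hp =>
        hs.orth P hPs Q (Finset.mem_of_mem_erase hQ) (Finset.ne_of_mem_erase hQ).symm p hp x hx⟩
    refine ⟨fun Q hQ => hs.rank Q (Finset.mem_of_mem_erase hQ), hle,
      fun Q hQ => hs.nd Q (Finset.mem_of_mem_erase hQ),
      fun Q hQ Q' hQ' => hs.orth Q (Finset.mem_of_mem_erase hQ) Q' (Finset.mem_of_mem_erase hQ'),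
      fun y hy => ?_⟩
    have hy' : y ∈ P ⊔ (s.erase P).sup id := by
      have h := hs.span hy.1
      rwa [← Finset.insert_erase hPs, Finset.sup_insert] at h
    obtain ⟨p, hp, q, hq, rfl⟩ := Submodule.mem_sup.mp hy'
    have hqQ : q ∈ Y ⊓ perp B P := (Finset.sup_le hle : (s.erase P).sup id ≤ Y ⊓ perp B P) hq
    have hp0 : p = 0 := hP p hp fun z hz => by
      have h := (mem_perp B).mp hy.2 z hz
      rw [map_add, (mem_perp B).mp hqQ.2 z hz, add_zero] at h
      rw [neg_swap hB z p, h, neg_zero]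
    rwa [hp0, zero_add]
  refine ⟨herase, Finset.card_nbij' (fun s => s.erase P) (fun s => insert P s) ?_ ?_ ?_ ?_⟩
  · intro s hs
    simp only [Finset.coe_filter, Set.mem_ofPred_eq] at hs
    exact herase s hs.1 hs.2
  · intro s hs
    have hs' := (mem_decs B).mp hs
    simp only [Finset.coe_filter, Set.mem_ofPred_eq, mem_decs]
    refine ⟨⟨?_, ?_, ?_, ?_, ?_⟩, Finset.mem_insert_self _ _⟩
    · intro Q hQ
      rcases Finset.mem_insert.mp hQ with rfl | h
      exacts [hP2, hs'.rank Q h]
    · intro Q hQ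
      rcases Finset.mem_insert.mp hQ with rfl | h
      exacts [hPY, (hs'.le Q h).trans inf_le_left]
    · intro Q hQ
      rcases Finset.mem_insert.mp hQ with rfl | h
      exacts [hP, hs'.nd Q h]
    · intro Q hQ Q' hQ' hne a ha b hb
      rcases Finset.mem_insert.mp hQ with rfl | h <;> rcases Finset.mem_insert.mp hQ' with rfl | h'
      · exact absurd rfl hne
      · exact (mem_perp B).mp (hs'.le Q' h' hb).2 a ha
      · rw [neg_swap hB b a, (mem_perp B).mp (hs'.le Q h ha).2 b hb, neg_zero]
      · exact hs'.orth Q h Q' h' hne a ha b hb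
    · rw [Finset.sup_insert]
      exact (split_plane hB hY hP hP2 hPY).2.2.trans (sup_le_sup_left hs'.span _)
  · intro s hs
    simp only [Finset.coe_filter, Set.mem_ofPred_eq] at hs
    exact Finset.insert_erase hs.2
  · intro s hs
    refine Finset.erase_insert fun h => hP0 ?_
    rw [eq_bot_iff]
    intro x hx
    refine (Submodule.mem_bot _).mpr (hP x hx fun z hz => ?_)
    rw [neg_swap hB z x, (mem_perp B).mp (((mem_decs B).mp hs).le P h hx).2 z hz, neg_zero]

/-- The count of decompositions, up to the orders of the pieces. -/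
theorem count_decs (hB : ∀ x, B x x = 0) : ∀ (d : ℕ) (Y : Submodule (ZMod r) X),
    finrank (ZMod r) Y = d → NonDeg B Y → ∃ n, d = 2 * n ∧ (∀ s ∈ decs B Y, s.card = n) ∧
      (decs B Y).card * n.factorial * ((r ^ 2 - 1) * r) ^ n =
        ∏ i ∈ Finset.range n, (r ^ (2 * (i + 1)) - 1) * r ^ (2 * i + 1) := by
  classical
  have hrpos : 0 < r := (Fact.out : r.Prime).pos
  intro d
  induction d using Nat.strong_induction_on with
  | _ d ih =>
    intro Y hd hY
    by_cases hY0 : Y = ⊥
    · subst hY0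
      rw [finrank_bot] at hd
      have hall : ∀ s ∈ decs B (⊥ : Submodule (ZMod r) X), s = ∅ := fun s hs =>
        Finset.eq_empty_of_forall_notMem fun P hP => by
          have h1 := ((mem_decs B).mp hs).rank P hP
          rw [le_bot_iff.mp (((mem_decs B).mp hs).le P hP), finrank_bot] at h1
          omega
      have he : decs B (⊥ : Submodule (ZMod r) X) = {∅} := by
        refine Finset.eq_singleton_iff_unique_mem.mpr ⟨(mem_decs B).mpr ?_, hall⟩
        exact ⟨by simp, by simp, by simp, by simp, bot_le⟩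
      refine ⟨0, by omega, fun s hs => by rw [hall s hs]; rfl, ?_⟩
      simp [he]
    obtain ⟨u, hu, hu0⟩ := Submodule.exists_mem_ne_zero_of_ne_bot hY0
    obtain ⟨v, hv, huv⟩ := exists_one hY hu hu0
    set planes := (pairs B Y).image fun p => Submodule.span (ZMod r) ({p.1, p.2} : Set X)
      with hplanes
    have hpl : ∀ P ∈ planes, NonDeg B P ∧ finrank (ZMod r) P = 2 ∧ P ≤ Y := by
      intro P hP
      obtain ⟨p, hp, rfl⟩ := Finset.mem_image.mp hP
      rw [mem_pairs] at hp
      exact ⟨nonDeg_pair hB hp.2.2, finrank_pair hB hp.2.2,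
        Submodule.span_le.mpr (Set.insert_subset hp.1 (Set.singleton_subset_iff.mpr hp.2.1))⟩
    have hmem_planes : ∀ P : Submodule (ZMod r) X,
        NonDeg B P → finrank (ZMod r) P = 2 → P ≤ Y → P ∈ planes := by
      intro P hP hP2 hPY
      have hP0 : P ≠ ⊥ := fun h => by rw [h, finrank_bot] at hP2; omega
      obtain ⟨a, ha, ha0⟩ := Submodule.exists_mem_ne_zero_of_ne_bot hP0
      obtain ⟨b, hb, hab⟩ := exists_one hP ha ha0
      refine Finset.mem_image.mpr ⟨(a, b), (mem_pairs B).mpr ⟨hPY ha, hPY hb, hab⟩, ?_⟩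
      exact Submodule.eq_of_le_of_finrank_le
        (Submodule.span_le.mpr (Set.insert_subset ha (Set.singleton_subset_iff.mpr hb)))
        (by rw [hP2, finrank_pair hB hab])
    have hP₀ : Submodule.span (ZMod r) ({u, v} : Set X) ∈ planes :=
      Finset.mem_image.mpr ⟨(u, v), (mem_pairs B).mpr ⟨hu, hv, huv⟩, rfl⟩
    have hd2 : 2 ≤ d := by
      obtain ⟨hn, h2, hle⟩ := hpl _ hP₀
      have := Submodule.finrank_mono hle
      omega
    obtain ⟨hn0, hr0, hle0⟩ := hpl _ hP₀
    obtain ⟨hYn₀, hYr₀, -⟩ := split_plane hB hY hn0 hr0 hle0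
    obtain ⟨m, hm, -, -⟩ := ih (d - 2) (by omega) _ (by omega) hYn₀
    -- every piece has the same count
    have hrec : ∀ P ∈ planes, (∀ s ∈ decs B Y, P ∈ s → s.card = m + 1) ∧
        ((decs B Y).filter fun s => P ∈ s).card * m.factorial * ((r ^ 2 - 1) * r) ^ m =
          ∏ i ∈ Finset.range m, (r ^ (2 * (i + 1)) - 1) * r ^ (2 * i + 1) := by
      intro P hP
      obtain ⟨hn, h2, hle⟩ := hpl P hP
      obtain ⟨hYn, hYr, -⟩ := split_plane hB hY hn h2 hle
      obtain ⟨he, hcard⟩ := card_with_plane hB hY hn h2 hle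
      obtain ⟨m', hm', hc', hcount⟩ := ih (d - 2) (by omega) _ (by omega) hYn
      obtain rfl : m' = m := by omega
      refine ⟨fun s hs hPs => ?_, hcard ▸ hcount⟩
      rw [← hc' _ (he s hs hPs), Finset.card_erase_of_mem hPs]
      have := Finset.card_pos.mpr ⟨P, hPs⟩
      omega
    have hcards : ∀ s ∈ decs B Y, s.card = m + 1 := by
      intro s hs
      have hs' := (mem_decs B).mp hs
      obtain ⟨P, hP⟩ : s.Nonempty := Finset.nonempty_iff_ne_empty.mpr fun h => hY0 (by
        have h1 := hs'.span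
        rwa [h, Finset.sup_empty, le_bot_iff] at h1)
      exact (hrec P (hmem_planes P (hs'.nd P hP) (hs'.rank P hP) (hs'.le P hP))).1 s hs hP
    refine ⟨m + 1, by omega, hcards, ?_⟩
    set c := (r ^ 2 - 1) * r with hc
    set tot := ∏ i ∈ Finset.range m, (r ^ (2 * (i + 1)) - 1) * r ^ (2 * i + 1) with htot
    have h1 : (decs B Y).card * (m + 1) = ∑ P ∈ planes, ((decs B Y).filter fun s => P ∈ s).card := by
      rw [← smul_eq_mul, ← Finset.sum_const, ← Finset.sum_congr rfl hcards]
      refine Eq.trans (Finset.sum_congr rfl fun s hs => ?_)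
        (Finset.sum_card_bipartiteAbove_eq_sum_card_bipartiteBelow
          (r := fun (s : Finset (Submodule (ZMod r) X)) P => P ∈ s) (s := decs B Y) (t := planes))
      congr 1
      ext P
      rw [Finset.mem_bipartiteAbove]
      refine ⟨fun h => ⟨hmem_planes P ?_ ?_ ?_, h⟩, fun h => h.2⟩
      exacts [((mem_decs B).mp hs).nd P h, ((mem_decs B).mp hs).rank P h,
        ((mem_decs B).mp hs).le P h]
    have hpc : ∀ P ∈ planes, ((pairs B Y).filter
        fun p => Submodule.span (ZMod r) ({p.1, p.2} : Set X) = P).card = c := by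
      intro P hP
      obtain ⟨hn, h2, hle⟩ := hpl P hP
      have he : ((pairs B Y).filter fun p => Submodule.span (ZMod r) ({p.1, p.2} : Set X) = P) =
          pairs B P := by
        ext p
        rw [Finset.mem_filter, mem_pairs, mem_pairs]
        constructor
        · rintro ⟨⟨-, -, h⟩, rfl⟩
          exact ⟨Submodule.subset_span (by simp), Submodule.subset_span (by simp), h⟩
        · rintro ⟨ha, hb, h⟩
          exact ⟨⟨hle ha, hle hb, h⟩, Submodule.eq_of_le_of_finrank_le
            (Submodule.span_le.mpr (Set.insert_subset ha (Set.singleton_subset_iff.mpr hb)))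
            (by rw [h2, finrank_pair hB h])⟩
      have h := card_pairs hn
      rw [h2, show (r ^ 2 - 1) * r ^ 2 = c * r by rw [hc]; ring] at h
      rw [he]
      exact Nat.eq_of_mul_eq_mul_right hrpos h
    have h2 : planes.card * c = (r ^ (2 * (m + 1)) - 1) * r ^ (2 * m + 1) := by
      refine Nat.eq_of_mul_eq_mul_right hrpos ?_
      have h := card_pairs hY
      have hmaps : Set.MapsTo (fun p : X × X => Submodule.span (ZMod r) ({p.1, p.2} : Set X))
          (pairs B Y : Set (X × X)) (planes : Set (Submodule (ZMod r) X)) :=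
        fun p hp => Finset.mem_image.mpr ⟨p, hp, rfl⟩
      rw [Finset.card_eq_sum_card_fiberwise hmaps,
        Finset.sum_congr rfl hpc, Finset.sum_const, smul_eq_mul, hd,
        show d = 2 * (m + 1) by omega] at h
      rw [h, mul_assoc, ← pow_succ, show 2 * (m + 1) = 2 * m + 1 + 1 by ring]
    calc (decs B Y).card * (m + 1).factorial * c ^ (m + 1)
        = ((decs B Y).card * (m + 1)) * (m.factorial * c ^ m) * c := by
          rw [Nat.factorial_succ, pow_succ]; ring
      _ = (∑ P ∈ planes, ((decs B Y).filter fun s => P ∈ s).card * m.factorial * c ^ m) * c := by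
          rw [h1, Finset.sum_mul]
          congr 1
          exact Finset.sum_congr rfl fun P _ => by ring
      _ = tot * ((r ^ (2 * (m + 1)) - 1) * r ^ (2 * m + 1)) := by
          rw [Finset.sum_congr rfl (fun P hP => (hrec P hP).2), Finset.sum_const, smul_eq_mul, ← h2]
          ring
      _ = _ := (Finset.prod_range_succ _ _).symm

/-- Having the same two-part. -/
def EqTwo (a b : ℕ) : Prop := ∃ o o', Odd o ∧ Odd o' ∧ o * a = o' * b

theorem EqTwo.mul {a b c d : ℕ} (h : EqTwo a b) (h' : EqTwo c d) : EqTwo (a * c) (b * d) := by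
  obtain ⟨o, o', ho, ho', h⟩ := h
  obtain ⟨p, p', hp, hp', h'⟩ := h'
  exact ⟨o * p, o' * p', ho.mul hp, ho'.mul hp', by rw [mul_mul_mul_comm, h, h', mul_mul_mul_comm]⟩

theorem eqTwo_geom (q : ℕ) (hq : q % 4 = 1) : ∀ m, EqTwo m (∑ l ∈ Finset.range m, q ^ l) := by
  intro m
  induction m using Nat.strong_induction_on with
  | _ m ih =>
    have hqo : ∀ l, Odd (q ^ l) := fun l => (Nat.odd_iff.mpr (by omega) : Odd q).pow
    rcases Nat.even_or_odd m with ⟨t, ht⟩ | hm
    · rcases Nat.eq_zero_or_pos t with rfl | htp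
      · subst ht; exact ⟨1, 1, odd_one, odd_one, by simp⟩
      obtain ⟨o, o', ho, ho', h⟩ := ih t (by omega)
      have h4 : q ^ t % 4 = 1 := by simp [Nat.pow_mod, hq]
      obtain ⟨g, hg⟩ : ∃ g, 1 + q ^ t = 2 * g ∧ Odd g :=
        ⟨(1 + q ^ t) / 2, by omega, Nat.odd_iff.mpr (by omega)⟩
      refine ⟨o * g, o', ho.mul hg.2, ho', ?_⟩
      rw [ht, Finset.sum_range_add]
      simp only [pow_add]
      rw [← Finset.mul_sum]
      calc o * g * (t + t) = (o * t) * (2 * g) := by ring
        _ = o' * (∑ l ∈ Finset.range t, q ^ l) * (1 + q ^ t) := by rw [h, hg.1]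
        _ = _ := by ring
    · exact ⟨∑ l ∈ Finset.range m, q ^ l, m,
        (by
          rw [Finset.odd_sum_iff_odd_card_odd, Finset.filter_true_of_mem fun l _ => hqo l,
            Finset.card_range]
          exact hm), hm, mul_comm _ _⟩

/-- The number of decompositions is odd. -/
theorem odd_card_decs (hr2 : r ≠ 2) (hB : ∀ x, B x x = 0) {Y : Submodule (ZMod r) X}
    (hY : NonDeg B Y) : Odd (decs B Y).card := by
  obtain ⟨n, -, -, hcount⟩ := count_decs hB _ Y rfl hY
  have hr : Odd r := (Fact.out : r.Prime).odd_of_ne_two hr2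
  have hq : r ^ 2 % 4 = 1 := by
    obtain ⟨t, ht⟩ := hr
    have : r ^ 2 = 4 * (t * t + t) + 1 := by rw [ht]; ring
    omega
  set N := (decs B Y).card
  set S : ℕ → ℕ := fun i => ∑ l ∈ Finset.range (i + 1), (r ^ 2) ^ l with hS
  have h1 : N * n.factorial * r ^ n = ∏ i ∈ Finset.range n, S i * r ^ (2 * i + 1) := by
    have hpos : 0 < r ^ 2 - 1 := by
      have := (Fact.out : r.Prime).two_le
      have : 2 ^ 2 ≤ r ^ 2 := Nat.pow_le_pow_left this 2
      omega
    refine Nat.eq_of_mul_eq_mul_right (pow_pos hpos n) ?_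
    calc N * n.factorial * r ^ n * (r ^ 2 - 1) ^ n
        = N * n.factorial * ((r ^ 2 - 1) * r) ^ n := by rw [mul_pow]; ring
      _ = ∏ i ∈ Finset.range n, (r ^ 2 - 1) * (S i * r ^ (2 * i + 1)) := by
          rw [hcount]
          refine Finset.prod_congr rfl fun i _ => ?_
          have hg := geom_sum_mul_add (r ^ 2 - 1) (i + 1)
          rw [Nat.sub_add_cancel (by omega : 1 ≤ r ^ 2), ← pow_mul] at hg
          rw [← hg, Nat.add_sub_cancel]
          ring
      _ = _ := by rw [Finset.prod_mul_distrib, Finset.prod_const, Finset.card_range]; ring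
  have h2 : ∀ k, EqTwo k.factorial (∏ i ∈ Finset.range k, S i * r ^ (2 * i + 1)) := by
    intro k
    induction k with
    | zero => exact ⟨1, 1, odd_one, odd_one, by simp⟩
    | succ k ih =>
      rw [Finset.prod_range_succ, Nat.factorial_succ, mul_comm (k + 1)]
      refine ih.mul ?_
      obtain ⟨o, o', ho, ho', h⟩ := eqTwo_geom (r ^ 2) hq (k + 1)
      exact ⟨o * r ^ (2 * k + 1), o', ho.mul hr.pow, ho', by rw [mul_right_comm, h, mul_assoc]⟩
  obtain ⟨o, o', ho, ho', h⟩ := h2 n
  rw [← h1] at h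
  have h3 : o = o' * N * r ^ n :=
    Nat.eq_of_mul_eq_mul_right n.factorial_pos (by rw [h]; ring)
  rw [h3] at ho
  exact (Nat.odd_mul.mp (Nat.odd_mul.mp ho).1).2

end H58.DL
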