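import Cfsg.Agent.H12.DL.Defs
import Cfsg.Agent.H2.UniqueSubgroup
import Cfsg.Agent.H58.DL.Count

/-!
A `2`-group of isometries permutes some decomposition into orthogonal planes, and acts on a plane
through a group with abelian derived subgroup.
-/

set_option autoImplicit false
set_option linter.style.haveILetI false
set_option linter.unusedSectionVars false

namespace H58.DL

open Module H51.Bryu
open scoped commutatorElement

universe u v w

variable {r : ℕ} [Fact r.Prime] {K : Type v} [Field K]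
variable {X : Type w} [AddCommGroup X] [Module (ZMod r) X]

/-- The exponents of a value of the pairing form a bilinear form. -/
theorem exists_log (F : PairingForm r K X) : ∃ B : X →ₗ[ZMod r] X →ₗ[ZMod r] ZMod r,
    (∀ x, B x x = 0) ∧ (∀ x y, B x y = 0 ↔ F.b x y = 1) ∧
    ∀ x y x' y', F.b x y = F.b x' y' → B x y = B x' y' := by
  classical
  haveI : NeZero r := ⟨(Fact.out : r.Prime).ne_zero⟩
  by_cases htriv : ∀ x y, F.b x y = 1
  · exact ⟨0, fun x => rfl, fun x y => iff_of_true rfl (htriv x y), fun x y x' y' _ => rfl⟩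
  push Not at htriv
  obtain ⟨x₀, y₀, hne⟩ := htriv
  have hζ : IsPrimitiveRoot (F.b x₀ y₀) r := by
    have h := IsPrimitiveRoot.orderOf (F.b x₀ y₀)
    rwa [orderOf_eq_prime (F.pow_r x₀ y₀) hne] at h
  set ζ := F.b x₀ y₀
  have hnat : ∀ i : ℕ, ζ ^ (i : ZMod r).val = ζ ^ i := fun i => by
    rw [ZMod.val_natCast]; exact (pow_eq_pow_mod i hζ.pow_eq_one).symm
  have hinj : ∀ a b : ZMod r, ζ ^ a.val = ζ ^ b.val → a = b := fun a b h =>
    ZMod.val_injective r (hζ.pow_inj a.val_lt b.val_lt h)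
  have hex : ∀ x y, ∃ a : ZMod r, ζ ^ a.val = F.b x y := fun x y => by
    obtain ⟨i, -, hi⟩ := hζ.eq_pow_of_pow_eq_one (F.pow_r x y)
    exact ⟨i, by rw [hnat, hi]⟩
  choose L hL using hex
  have hadd : ∀ a b : ZMod r, ζ ^ (a + b).val = ζ ^ a.val * ζ ^ b.val := fun a b => by
    rw [← pow_add, ← hnat (a.val + b.val), Nat.cast_add, ZMod.natCast_zmod_val, ZMod.natCast_zmod_val]
  have hmul : ∀ a b : ZMod r, ζ ^ (a * b).val = (ζ ^ b.val) ^ a.val := fun a b => by
    rw [← pow_mul, ← hnat (b.val * a.val), Nat.cast_mul, ZMod.natCast_zmod_val, ZMod.natCast_zmod_val, mul_comm]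
  let B : X →ₗ[ZMod r] X →ₗ[ZMod r] ZMod r := LinearMap.mk₂ (ZMod r) L
    (fun x x' y => hinj _ _ (by rw [hadd, hL, hL, hL, F.add_left]))
    (fun c x y => hinj _ _ (by rw [smul_eq_mul, hmul, hL, hL, F.smul_left]))
    (fun x y y' => hinj _ _ (by rw [hadd, hL, hL, hL, F.add_right]))
    (fun c x y => hinj _ _ (by rw [smul_eq_mul, hmul, hL, hL, F.smul_right]))
  have h0 : ∀ x y, B x y = 0 ↔ F.b x y = 1 := fun x y => by
    show L x y = 0 ↔ _
    refine ⟨fun h => ?_, fun h => hinj _ _ ?_⟩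
    · rw [← hL, h, ZMod.val_zero, pow_zero]
    · rw [hL, h, ZMod.val_zero, pow_zero]
  exact ⟨B, fun x => (h0 x x).mpr (F.self x), h0,
    fun x y x' y' h => hinj _ _ ((hL x y).trans (h.trans (hL x' y').symm))⟩

variable [Finite X] {G : Type u} [Group G] [Finite G]

/-- A `2`-group of isometries permutes some decomposition into orthogonal planes. -/
theorem exists_planeDec (hr2 : r ≠ 2) (hG : IsPGroup 2 G) (F : PairingForm r K X)
    (act : G →* (X ≃ₗ[ZMod r] X)) (hiso : ∀ g, act g ∈ F.iso) :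
    ∃ s, H12.DL.PlaneDec F act s := by
  classical
  obtain ⟨B, hB, hB0, hBeq⟩ := exists_log F
  have hnd : NonDeg B (⊤ : Submodule (ZMod r) X) := fun y _ h =>
    F.nondeg y fun z => (hB0 y z).mp (h z trivial)
  have hisoB : ∀ g x y, B (act g x) (act g y) = B x y := fun g x y => hBeq _ _ _ _ (hiso g x y)
  let im : G → Finset (Submodule (ZMod r) X) → Finset (Submodule (ZMod r) X) := fun g s =>
    s.image fun P => P.map (act g).toLinearMap
  have him : ∀ g, ∀ s ∈ decs B (⊤ : Submodule (ZMod r) X), im g s ∈ decs B (⊤ : Submodule _ X) := by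
    intro g s hs
    rw [mem_decs] at hs ⊢
    refine ⟨?_, fun _ _ => le_top, ?_, ?_, ?_⟩
    · intro Q hQ
      obtain ⟨P, hP, rfl⟩ := Finset.mem_image.mp hQ
      exact (LinearEquiv.finrank_map_eq (act g) P).trans (hs.rank P hP)
    · intro Q hQ
      obtain ⟨P, hP, rfl⟩ := Finset.mem_image.mp hQ
      rintro _ ⟨y, hy, rfl⟩ h
      rw [hs.nd P hP y hy fun z hz => (hisoB g y z).symm.trans (h _ ⟨z, hz, rfl⟩), map_zero]
    · intro Q hQ Q' hQ' hne
      obtain ⟨P, hP, rfl⟩ := Finset.mem_image.mp hQ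
      obtain ⟨P', hP', rfl⟩ := Finset.mem_image.mp hQ'
      rintro _ ⟨y, hy, rfl⟩ _ ⟨y', hy', rfl⟩
      exact (hisoB g y y').trans (hs.orth P hP P' hP' (fun e => hne (by rw [e])) y hy y' hy')
    · intro x _
      obtain ⟨y, rfl⟩ := (act g).surjective x
      have hle : s.sup id ≤ ((im g s).sup id).comap (act g).toLinearMap :=
        Finset.sup_le fun P hP => Submodule.map_le_iff_le_comap.mp
          (Finset.le_sup (f := id) (Finset.mem_image.mpr ⟨P, hP, rfl⟩))
      exact hle (hs.span trivial)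
  let α := {s // s ∈ decs B (⊤ : Submodule (ZMod r) X)}
  letI : MulAction G α :=
    { smul := fun g s => ⟨im g s.1, him g s.1 s.2⟩
      one_smul := fun s => Subtype.ext (by
        show im 1 s.1 = s.1
        refine Finset.ext fun Q => ?_
        simp only [im, Finset.mem_image, map_one]
        have h1 : ((1 : X ≃ₗ[ZMod r] X) : X →ₗ[ZMod r] X) = LinearMap.id := rfl
        simp [h1, Submodule.map_id])
      mul_smul := fun g h s => Subtype.ext (by
        show im (g * h) s.1 = im g (im h s.1)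
        simp only [im, Finset.image_image]
        refine Finset.image_congr fun P _ => ?_
        simp only [Function.comp_apply, ← Submodule.map_comp, map_mul]
        rfl) }
  have hodd : ¬ 2 ∣ Nat.card α := by
    rw [Nat.card_eq_finsetCard, ← even_iff_two_dvd, Nat.not_even_iff_odd]
    exact odd_card_decs hr2 hB hnd
  obtain ⟨s, hs⟩ := hG.nonempty_fixed_point_of_prime_not_dvd_card α hodd
  have hd := (mem_decs B).mp s.2
  refine ⟨s.1, hd.rank, fun P hP Q hQ hne a ha b hb => (hB0 a b).mp (hd.orth P hP Q hQ hne a ha b hb),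
    top_le_iff.mp hd.span, fun g P hP => ?_⟩
  have h := congrArg Subtype.val (hs g)
  rw [← h]
  exact Finset.mem_image.mpr ⟨P, hP, rfl⟩

/-- An isometry of a plane whose square is trivial there is `1` or `-1` on it. -/
theorem neg_or_id (hr2 : r ≠ 2) (F : PairingForm r K X) (P : Submodule (ZMod r) X)
    (hP2 : finrank (ZMod r) P = 2) (hnd : ∀ p ∈ P, (∀ q ∈ P, F.b p q = 1) → p = 0)
    {g : X ≃ₗ[ZMod r] X} (hg : g ∈ F.iso) (hgP : ∀ x ∈ P, g x ∈ P)
    (hg2 : ∀ x ∈ P, g (g x) = x) : (∀ x ∈ P, g x = x) ∨ ∀ x ∈ P, g x = -x := by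
  by_contra hcon
  push Not at hcon
  obtain ⟨⟨x, hx, hxne⟩, y, hy, hyne⟩ := hcon
  set u := g x - x with hu
  set w := g y + y with hw
  have huP : u ∈ P := sub_mem (hgP x hx) hx
  have hwP : w ∈ P := add_mem (hgP y hy) hy
  have hgu : g u = -u := by rw [hu, map_sub, hg2 x hx, neg_sub]
  have hgw : g w = w := by rw [hw, map_add, hg2 y hy, add_comm]
  have hu0 : u ≠ 0 := sub_ne_zero.mpr hxne
  have hw0 : w ≠ 0 := fun h => hyne (eq_neg_of_add_eq_zero_left h)
  have huw : F.b u w = 1 := by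
    have h := hg u w
    rw [hgu, hgw] at h
    have h2 : F.b u w * F.b u w = 1 := by
      nth_rw 1 [← h]
      rw [← F.add_left, neg_add_cancel, F.zero_left]
    obtain ⟨t, ht⟩ := (Fact.out : r.Prime).odd_of_ne_two hr2
    have h4 : F.b u w ^ (2 * t + 1) = 1 :=
      (congrArg (fun n => F.b u w ^ n) ht.symm).trans (F.pow_r u w)
    rwa [pow_succ, pow_mul, sq, h2, one_pow, one_mul] at h4
  have hli : LinearIndependent (ZMod r) ![u, w] := by
    rw [LinearIndependent.pair_iff]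
    intro a b h
    have h' := congrArg g h
    rw [map_add, map_smul, map_smul, hgu, hgw, map_zero] at h'
    have h1 : (2 : ZMod r) • (b • w) = 0 := by
      have e : (a • u + b • w) + (a • -u + b • w) = 0 := by rw [h, h', add_zero]
      rw [← e, two_smul, smul_neg]; abel
    have hb : b = 0 :=
      (smul_eq_zero.mp ((smul_eq_zero.mp h1).resolve_left
        (H28.TwoLength.two_ne_zero' hr2))).resolve_right hw0
    rw [hb, zero_smul, add_zero] at h
    exact ⟨(smul_eq_zero.mp h).resolve_right hu0, hb⟩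
  have hspan : Submodule.span (ZMod r) {u, w} = P := by
    refine Submodule.eq_of_le_of_finrank_le
      (Submodule.span_le.mpr (Set.insert_subset huP (Set.singleton_subset_iff.mpr hwP))) ?_
    have h := finrank_span_eq_card hli
    rw [Matrix.range_cons, Matrix.range_cons, Matrix.range_empty, Set.union_empty,
      Set.singleton_union, Fintype.card_fin] at h
    omega
  refine hu0 (hnd u huP fun q hq => ?_)
  rw [← hspan] at hq
  obtain ⟨a, b, rfl⟩ := Submodule.mem_span_pair.mp hq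
  rw [F.add_right, F.smul_right, F.smul_right, F.self, huw, one_pow, one_pow, one_mul]

/-- A `2`-group with one involution has abelian derived subgroup. -/
theorem derived_two_eq_bot_of_unique {Q : Type*} [Group Q] [Finite Q] (hQ : IsPGroup 2 Q)
    (huniq : ∀ H K : Subgroup Q, Nat.card H = 2 → Nat.card K = 2 → H = K) :
    ⁅⁅(⊤ : Subgroup Q), (⊤ : Subgroup Q)⁆, ⁅(⊤ : Subgroup Q), (⊤ : Subgroup Q)⁆⁆ = ⊥ := by
  haveI := Fact.mk Nat.prime_two
  obtain ⟨A, -, hAn, hA, hmax⟩ := H6.exists_maximal_normal_abelian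
    (B := (⊥ : Subgroup Q)) inferInstance inferInstance
  have hC := H6.centralizer_eq_of_maximal_normal_abelian hQ hA hmax
  have := H2.isCyclic_comm_of_unique hQ huniq A hA
  obtain ⟨⟨a, haA⟩, hgen⟩ := IsCyclic.exists_generator (α := A)
  have hgen' : ∀ y ∈ A, y ∈ Subgroup.zpowers a := fun y hy => by
    obtain ⟨m, hm⟩ := Subgroup.mem_zpowers_iff.1 (hgen ⟨y, hy⟩)
    exact Subgroup.mem_zpowers_iff.2 ⟨m, congrArg Subtype.val hm⟩
  have hconj : ∀ x : Q, ∃ i : ℤ, x * a * x⁻¹ = a ^ i := fun x => by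
    obtain ⟨i, hi⟩ := Subgroup.mem_zpowers_iff.1 (hgen' _ (hAn.conj_mem a haA x))
    exact ⟨i, hi.symm⟩
  have hle : ⁅(⊤ : Subgroup Q), (⊤ : Subgroup Q)⁆ ≤ A := by
    rw [Subgroup.commutator_le]
    intro x _ y _
    obtain ⟨i, hi⟩ := hconj x⁻¹
    obtain ⟨j, hj⟩ := hconj y⁻¹
    have h1 : x⁻¹ * y⁻¹ * a * (x⁻¹ * y⁻¹)⁻¹ = y⁻¹ * x⁻¹ * a * (y⁻¹ * x⁻¹)⁻¹ := by
      rw [show x⁻¹ * y⁻¹ * a * (x⁻¹ * y⁻¹)⁻¹ = x⁻¹ * (y⁻¹ * a * y⁻¹⁻¹) * x⁻¹⁻¹ by group,
        show y⁻¹ * x⁻¹ * a * (y⁻¹ * x⁻¹)⁻¹ = y⁻¹ * (x⁻¹ * a * x⁻¹⁻¹) * y⁻¹⁻¹ by group,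
        hi, hj, ← conj_zpow, ← conj_zpow, hi, hj, ← zpow_mul, ← zpow_mul, mul_comm]
    have h2 : ⁅x, y⁆ * a = a * ⁅x, y⁆ := by
      rw [commutatorElement_def]
      calc x * y * x⁻¹ * y⁻¹ * a
          = x * y * (x⁻¹ * y⁻¹ * a * (x⁻¹ * y⁻¹)⁻¹) * (x⁻¹ * y⁻¹) := by group
        _ = x * y * (y⁻¹ * x⁻¹ * a * (y⁻¹ * x⁻¹)⁻¹) * (x⁻¹ * y⁻¹) := by rw [h1]
        _ = a * (x * y * x⁻¹ * y⁻¹) := by group
    rw [← hC, Subgroup.mem_centralizer_iff]
    intro b hb
    obtain ⟨l, rfl⟩ := Subgroup.mem_zpowers_iff.1 (hgen' b hb)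
    exact ((Commute.zpow_right h2 l).eq).symm
  rw [eq_bot_iff, Subgroup.commutator_le]
  intro x hx y hy
  rw [Subgroup.mem_bot, commutatorElement_eq_one_iff_mul_comm]
  exact congrArg Subtype.val (hA.is_comm.comm ⟨x, hle hx⟩ ⟨y, hle hy⟩)

variable (act : G →* (X ≃ₗ[ZMod r] X)) (P : Submodule (ZMod r) X) (H : Subgroup G)

/-- The action on an invariant subspace. -/
def resHom (hH : ∀ h ∈ H, ∀ x ∈ P, act h x ∈ P) : H →* Module.End (ZMod r) P where
  toFun h := (act (h : G)).toLinearMap.restrict (hH h h.2)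
  map_one' := LinearMap.ext fun x => Subtype.ext (by
    show act ((1 : H) : G) (x : X) = x
    rw [OneMemClass.coe_one, map_one]; rfl)
  map_mul' a b := LinearMap.ext fun x => Subtype.ext (by
    show act ((a * b : H) : G) (x : X) = act (a : G) (act (b : G) x)
    rw [Subgroup.coe_mul, map_mul]; rfl)

/-- The second derived subgroup of the stabiliser of a plane fixes it pointwise. -/
theorem fix_of_derived_two (hr2 : r ≠ 2) (hG : IsPGroup 2 G) (F : PairingForm r K X)
    (hiso : ∀ g, act g ∈ F.iso) (hP2 : finrank (ZMod r) P = 2)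
    (hnd : ∀ p ∈ P, (∀ q ∈ P, F.b p q = 1) → p = 0) (hH : ∀ h ∈ H, ∀ x ∈ P, act h x ∈ P) :
    ∀ g ∈ ⁅⁅H, H⁆, ⁅H, H⁆⁆, ∀ x ∈ P, act g x = x := by
  haveI : Finite (Module.End (ZMod r) P) := Finite.of_injective _ DFunLike.coe_injective
  set φ := (resHom act P H hH).toHomUnits with hφ
  have hval : ∀ (h : H) (x : P),
      (((φ h : (Module.End (ZMod r) P)ˣ) : Module.End (ZMod r) P) x : X) = act (h : G) x :=
    fun h x => rfl
  haveI : Finite φ.range := inferInstance
  have hQ : IsPGroup 2 φ.range :=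
    (hG.to_subgroup H).of_surjective φ.rangeRestrict φ.rangeRestrict_surjective
  have hinv : ∀ q : φ.range, q ^ 2 = 1 → q ≠ 1 → ∀ x : P,
      ((((q : (Module.End (ZMod r) P)ˣ) : Module.End (ZMod r) P) x : P) : X) = -(x : X) := by
    rintro ⟨_, h, rfl⟩ hq2 hq1 x
    have hsq : ∀ y : P, act (h : G) (act (h : G) (y : X)) = y := fun y => by
      have e : φ h * φ h = 1 := by
        have := congrArg Subtype.val hq2
        rwa [sq, Subgroup.coe_mul] at this
      have e' := congrArg (fun q : (Module.End (ZMod r) P)ˣ => ((q : Module.End (ZMod r) P) y : X)) e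
      exact e'
    rcases neg_or_id hr2 F P hP2 hnd (hiso h) (hH h h.2) (fun y hy => hsq ⟨y, hy⟩) with h1 | h1
    · have q1 : φ h = 1 := Units.ext (LinearMap.ext fun (y : P) => Subtype.ext (h1 y y.2))
      exact absurd (Subtype.ext q1) hq1
    · exact h1 x x.2
  have huniq : ∀ A B : Subgroup φ.range, Nat.card A = 2 → Nat.card B = 2 → A = B := by
    have hgenr : ∀ A : Subgroup φ.range, Nat.card A = 2 →
        ∃ q, q ^ 2 = 1 ∧ q ≠ 1 ∧ A = Subgroup.zpowers q := by
      intro A hA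
      haveI : Nontrivial A := Finite.one_lt_card_iff_nontrivial.mp (by omega)
      obtain ⟨⟨q, hq⟩, hq1⟩ := exists_ne (1 : A)
      have hq2 : (⟨q, hq⟩ : A) ^ 2 = 1 := hA ▸ pow_card_eq_one'
      have hq1' : q ≠ 1 := fun e => hq1 (Subtype.ext e)
      have hq2' : q ^ 2 = 1 := congrArg Subtype.val hq2
      haveI := Fact.mk Nat.prime_two
      exact ⟨q, hq2', hq1', (Subgroup.eq_of_le_of_card_ge (Subgroup.zpowers_le.mpr hq)
        (by rw [hA, Nat.card_zpowers, orderOf_eq_prime hq2' hq1'])).symm⟩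
    intro A B hA hB
    obtain ⟨q, hq, hq1, rfl⟩ := hgenr A hA
    obtain ⟨q', hq', hq1', rfl⟩ := hgenr B hB
    congr 1
    exact Subtype.ext (Units.ext (LinearMap.ext fun x => Subtype.ext
      ((hinv q hq hq1 x).trans (hinv q' hq' hq1' x).symm)))
  have hbot := derived_two_eq_bot_of_unique hQ huniq
  intro g hg x hx
  have e : ⁅⁅H, H⁆, ⁅H, H⁆⁆ = Subgroup.map H.subtype
      ⁅⁅(⊤ : Subgroup H), (⊤ : Subgroup H)⁆, ⁅(⊤ : Subgroup H), (⊤ : Subgroup H)⁆⁆ := by
    rw [Subgroup.map_commutator, Subgroup.map_commutator, ← MonoidHom.range_eq_map,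
      Subgroup.range_subtype]
  rw [e] at hg
  obtain ⟨h, hh, rfl⟩ := hg
  have h1 : φ.rangeRestrict h ∈ Subgroup.map φ.rangeRestrict
      ⁅⁅(⊤ : Subgroup H), (⊤ : Subgroup H)⁆, ⁅(⊤ : Subgroup H), (⊤ : Subgroup H)⁆⁆ := ⟨h, hh, rfl⟩
  rw [Subgroup.map_commutator, Subgroup.map_commutator,
    Subgroup.map_top_of_surjective _ φ.rangeRestrict_surjective, hbot, Subgroup.mem_bot] at h1
  exact congrArg (fun q : φ.range =>
    ((((q : (Module.End (ZMod r) P)ˣ) : Module.End (ZMod r) P) ⟨x, hx⟩ : P) : X)) h1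

/-- A stabiliser acting on a plane through a non-abelian group has an element squaring to `-1`. -/
theorem exists_order_four (hr2 : r ≠ 2) (hG : IsPGroup 2 G) (F : PairingForm r K X)
    (hiso : ∀ g, act g ∈ F.iso) (hP2 : finrank (ZMod r) P = 2)
    (hnd : ∀ p ∈ P, (∀ q ∈ P, F.b p q = 1) → p = 0) (hH : ∀ h ∈ H, ∀ x ∈ P, act h x ∈ P)
    (hne : ∃ g ∈ ⁅H, H⁆, ∃ x ∈ P, act g x ≠ x) :
    ∃ h ∈ H, ∀ x ∈ P, act h (act h x) = -x := by
  set φ := resHom act P H hH with hφ
  have hval : ∀ (h : H) (x : P), (φ h x : X) = act (h : G) x := fun h x => rfl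
  -- some square is not trivial on the plane
  obtain ⟨h₀, hh₀⟩ : ∃ h : H, φ (h ^ 2) ≠ 1 := by
    by_contra hcon
    push Not at hcon
    obtain ⟨g, hg, x, hx, hgx⟩ := hne
    have hcm : ∀ a b : H, φ ⁅a, b⁆ = 1 := fun a b => by
      rw [show ⁅a, b⁆ = (a * b) ^ 2 * ((b⁻¹ * a⁻¹ * b) ^ 2 * b⁻¹ ^ 2) by
        simp only [commutatorElement_def, sq]; group, map_mul, map_mul, hcon, hcon, hcon]
      simp
    have hker : ⁅H, H⁆ ≤ (φ.toHomUnits.ker).map H.subtype := by
      rw [Subgroup.commutator_le]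
      intro a ha b hb
      exact ⟨⁅(⟨a, ha⟩ : H), ⟨b, hb⟩⁆, Units.ext (hcm _ _), rfl⟩
    obtain ⟨h, hh, rfl⟩ := hker hg
    refine hgx ?_
    have h1 : φ h = 1 := congrArg Units.val hh
    exact (hval h ⟨x, hx⟩).symm.trans (by rw [h1]; rfl)
  haveI := Fact.mk Nat.prime_two
  -- the last nontrivial iterated square
  obtain ⟨N, hN⟩ := hG.to_subgroup H h₀
  obtain ⟨l, hl1, hl2⟩ : ∃ l, φ (h₀ ^ 2 ^ (l + 1)) ≠ 1 ∧ φ (h₀ ^ 2 ^ (l + 2)) = 1 := by
    by_contra hcon
    push Not at hcon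
    have : ∀ l, φ (h₀ ^ 2 ^ (l + 1)) ≠ 1 := fun l => by
      induction l with
      | zero => rwa [zero_add, pow_one]
      | succ l ih => exact hcon l ih
    exact this N (by rw [pow_succ, pow_mul, hN, one_pow, map_one])
  set h := h₀ ^ 2 ^ l with hh
  have e1 : h₀ ^ 2 ^ (l + 1) = h * h := by rw [hh, ← pow_add, ← two_mul, ← pow_succ']
  have e2 : h₀ ^ 2 ^ (l + 2) = (h * h) * (h * h) := by rw [← e1, ← pow_add, ← two_mul, ← pow_succ']
  refine ⟨h, h.2, fun x hx => ?_⟩
  have hsq : ∀ y ∈ P, act ((h * h : H) : G) (act ((h * h : H) : G) y) = y := fun y hy => by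
    have e := congrArg (fun q : Module.End (ZMod r) P => ((q ⟨y, hy⟩ : P) : X)) (e2 ▸ hl2)
    simpa [hval, Module.End.mul_apply, map_mul] using e
  rcases neg_or_id hr2 F P hP2 hnd (hiso _) (hH _ (h * h).2) hsq with h1 | h1
  · refine absurd (LinearMap.ext fun y => Subtype.ext ?_) hl1
    rw [e1]
    exact (hval _ y).trans (h1 y y.2)
  · have h2 := h1 x hx
    rwa [Subgroup.coe_mul, map_mul, LinearEquiv.mul_apply] at h2

end H58.DL
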