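import Cfsg.Agent.H12.DL.Idem
import Mathlib.LinearAlgebra.Dual.Lemmas

/-!
Frames for a Heisenberg setting with a plane decomposition: equivariant corner idempotents, a
common fixed vector, the spaces attached to sets of planes, and the chain claim (for S4259).
-/

set_option autoImplicit false
set_option linter.all false

namespace H12.DL

open Module H51.Bryu
open scoped commutatorElement

universe u v w x

variable {r : ℕ} [Fact r.Prime] {K : Type v} [Field K] {X : Type w} [AddCommGroup X]
  [Module (ZMod r) X] {E : Type x} [AddCommGroup E] [Module K E] {G : Type u} [Group G]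

/-- The image of a plane under an operator. -/
abbrev planeMap (act : G →* (X ≃ₗ[ZMod r] X)) (g : G) (P : Submodule (ZMod r) X) :
    Submodule (ZMod r) X :=
  P.map (act g).toLinearMap

theorem planeMap_one (act : G →* (X ≃ₗ[ZMod r] X)) (P : Submodule (ZMod r) X) :
    planeMap act 1 P = P := by
  show P.map (act 1).toLinearMap = P
  rw [map_one]
  exact Submodule.map_id P

theorem planeMap_mul (act : G →* (X ≃ₗ[ZMod r] X)) (g h : G) (P : Submodule (ZMod r) X) :
    planeMap act (g * h) P = planeMap act g (planeMap act h P) := by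
  show P.map (act (g * h)).toLinearMap = _
  rw [map_mul]
  exact Submodule.map_comp (act h).toLinearMap (act g).toLinearMap P

theorem planeMap_inv (act : G →* (X ≃ₗ[ZMod r] X)) {g : G} {P Q : Submodule (ZMod r) X}
    (h : planeMap act g P = Q) : planeMap act g⁻¹ Q = P := by
  rw [← h, ← planeMap_mul, inv_mul_cancel, planeMap_one]

theorem planeMap_mem (act : G →* (X ≃ₗ[ZMod r] X)) {g : G} {P Q : Submodule (ZMod r) X}
    (h : planeMap act g P = Q) {a : X} (ha : a ∈ P) : act g a ∈ Q := h ▸ ⟨a, ha, rfl⟩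

/-- The planes of a decomposition are nondegenerate. -/
theorem PlaneDec.nondeg {F : PairingForm r K X} {act : G →* (X ≃ₗ[ZMod r] X)}
    {s : Finset (Submodule (ZMod r) X)} (hd : PlaneDec F act s) {P : Submodule (ZMod r) X}
    (hP : P ∈ s) : ∀ a ∈ P, (∀ b ∈ P, F.b a b = 1) → a = 0 := by
  intro a ha h
  refine F.nondeg a fun y => ?_
  let O : Submodule (ZMod r) X :=
    { carrier := {y | F.b a y = 1}
      zero_mem' := F.zero_right a
      add_mem' := fun {p q} hp hq => by
        show F.b a (p + q) = 1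
        rw [F.add_right, show F.b a p = 1 from hp, show F.b a q = 1 from hq, one_mul]
      smul_mem' := fun c p hp => by
        show F.b a (c • p) = 1
        rw [F.smul_right, show F.b a p = 1 from hp, one_pow] }
  have hle : s.sup id ≤ O := Finset.sup_le fun Q hQ b hb => by
    by_cases e : P = Q
    · exact h b (e ▸ hb)
    · exact hd.orth P hP Q hQ e a ha b hb
  exact hle (hd.top ▸ Submodule.mem_top)

namespace Heis

variable (H : Heis r K X E G)

/-- Transport of a corner. -/
theorem corner_conj [Nontrivial E] {g : G} {P Q : Submodule (ZMod r) X} (hPQ : planeMap H.act g P = Q)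
    {f : Module.End K E} (hf : H.Corner P f) : H.Corner Q (H.conj g f) := by
  have hQP := planeMap_inv H.act hPQ
  have hback : ∀ y : Module.End K E, H.conj g (H.conj g⁻¹ y) = y := fun y => by
    rw [← H.conj_comp, mul_inv_cancel, H.conj_id]
  have hopinv : ∀ z : E, H.op g (H.op g⁻¹ z) = z := fun z => by
    rw [← Module.End.mul_apply, H.op_mul_inv, Module.End.one_apply]
  have hfix : ∀ z : E, H.conj g f z = z → f (H.op g⁻¹ z) = H.op g⁻¹ z := fun z hz => by
    refine H.op_inj g ?_
    rw [← H.conj_op g f, hopinv, hz]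
  refine ⟨H.conj_mem_A g (fun a ha => planeMap_mem H.act hPQ ha) hf.mem,
    by rw [← H.conj_mul, hf.idem], ?_, ?_, ?_, ?_⟩
  · intro y hy
    obtain ⟨c, hc⟩ := hf.corner _ (H.conj_mem_A g⁻¹ (fun a ha => planeMap_mem H.act hQP ha) hy)
    exact ⟨c, by rw [← map_smul, ← hc, H.conj_mul, H.conj_mul, hback]⟩
  · intro I hI hinv
    have hI' : I.map (H.op g⁻¹) ≠ ⊥ := fun h => hI (by
      rw [eq_bot_iff] at h ⊢
      intro z hz
      have h0 : H.op g⁻¹ z = 0 := h ⟨z, hz, rfl⟩
      rw [Submodule.mem_bot, ← hopinv z, h0, map_zero])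
    have hinv' : ∀ y ∈ H.A P, ∀ z ∈ I.map (H.op g⁻¹), y z ∈ I.map (H.op g⁻¹) := by
      rintro y hy _ ⟨z, hz, rfl⟩
      refine ⟨H.conj g y z, hinv _ (H.conj_mem_A g (fun a ha => planeMap_mem H.act hPQ ha) hy) z hz,
        H.op_inj g ?_⟩
      rw [hopinv, ← H.conj_op g y, hopinv]
    obtain ⟨w, ⟨z, hz, rfl⟩, hne⟩ := hf.hit _ hI' hinv'
    refine ⟨z, hz, fun h0 => hne (H.op_inj g ?_)⟩
    rw [← H.conj_op g f, hopinv, map_zero, h0]
  · intro k hk z hz
    have hst : ∀ a ∈ P, H.act (g⁻¹ * k * g) a ∈ P := fun a ha => by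
      rw [map_mul, map_mul, LinearEquiv.mul_apply, LinearEquiv.mul_apply]
      exact planeMap_mem H.act hQP (hk _ (planeMap_mem H.act hPQ ha))
    have h1 := hf.stab _ hst _ (hfix z hz)
    have e : H.op g (H.op (g⁻¹ * k * g) (H.op g⁻¹ z)) = H.op k z := by
      rw [map_mul, map_mul, Module.End.mul_apply, Module.End.mul_apply, hopinv, hopinv]
    rw [← e, H.conj_op, h1]
  · intro t ht z hz htz
    have hneg : ∀ a ∈ P, H.act (g⁻¹ * t * g) a = -a := fun a ha => by
      rw [map_mul, map_mul, LinearEquiv.mul_apply, LinearEquiv.mul_apply,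
        ht _ (planeMap_mem H.act hPQ ha), map_neg, ← LinearEquiv.mul_apply, ← map_mul,
        inv_mul_cancel, map_one]
      rfl
    have hfix' : H.op (g⁻¹ * t * g) (H.op g⁻¹ z) = H.op g⁻¹ z := by
      rw [map_mul, map_mul, Module.End.mul_apply, Module.End.mul_apply, hopinv, htz]
    obtain ⟨a, ha, he⟩ := hf.neg _ hneg _ (hfix z hz) hfix'
    refine ⟨H.conj g a, H.conj_mem_A g (fun a ha => planeMap_mem H.act hPQ ha) ha, ?_⟩
    have e1 : H.conj g a z = H.op g (a (H.op g⁻¹ z)) := by rw [← H.conj_op, hopinv]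
    have e2 := congrArg (H.op g) he
    rw [map_sub, hopinv, map_mul, map_mul, Module.End.mul_apply, Module.End.mul_apply, hopinv] at e2
    rw [e1]
    exact e2

end Heis

/-- Equivariant corners and a common fixed vector for a plane decomposition. -/
structure Frame (H : Heis r K X E G) (s : Finset (Submodule (ZMod r) X)) where
  dec : PlaneDec H.F H.act s
  f : Submodule (ZMod r) X → Module.End K E
  phi : E
  corner : ∀ P ∈ s, H.Corner P (f P)
  equiv : ∀ (g : G), ∀ P ∈ s, ∀ z, f P z = z → f (planeMap H.act g P) (H.op g z) = H.op g z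
  fix : ∀ P ∈ s, f P phi = phi
  ne_zero : phi ≠ 0
  op_fix : ∀ g, H.op g phi = phi

/-- Every plane decomposition carries a frame. -/
theorem exists_frame [Nontrivial E] [CharP K 2] [IsAlgClosed K] [FiniteDimensional K E] [Finite G]
    (H : Heis r K X E G) (hr2 : r ≠ 2) (hG : IsPGroup 2 G)
    {s : Finset (Submodule (ZMod r) X)} (hd : PlaneDec H.F H.act s) : Nonempty (Frame H s) := by
  classical
  -- representatives of the orbits
  let orb : Submodule (ZMod r) X → Set (Submodule (ZMod r) X) := fun P =>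
    Set.range fun g => planeMap H.act g P
  have hne : ∀ P, (orb P).Nonempty := fun P => ⟨_, 1, rfl⟩
  let pick : Set (Submodule (ZMod r) X) → Submodule (ZMod r) X := fun S =>
    if h : S.Nonempty then h.some else ⊥
  have hpick : ∀ P, ∃ g : G, planeMap H.act g (pick (orb P)) = P := fun P => by
    have h : pick (orb P) ∈ orb P := by
      simp only [pick, dif_pos (hne P)]
      exact (hne P).some_mem
    obtain ⟨g, hg⟩ := h
    exact ⟨g⁻¹, planeMap_inv H.act hg⟩
  have horb : ∀ g P, orb (planeMap H.act g P) = orb P := fun g P => by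
    ext Q
    constructor
    · rintro ⟨h, rfl⟩
      exact ⟨h * g, planeMap_mul _ _ _ _⟩
    · rintro ⟨h, rfl⟩
      exact ⟨h * g⁻¹, by simp only [← planeMap_mul, inv_mul_cancel_right]⟩
  choose sel hsel using hpick
  have hrs : ∀ P ∈ s, pick (orb P) ∈ s := fun P hP => by
    rw [← planeMap_inv H.act (hsel P)]
    exact hd.perm _ P hP
  let f₀ : Submodule (ZMod r) X → Module.End K E := fun R =>
    if h : R ∈ s then (H.exists_corner hr2 hG R (hd.rank R h) (hd.nondeg h)).choose else 0
  have hf₀ : ∀ R ∈ s, H.Corner R (f₀ R) := fun R h => by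
    simp only [f₀, dif_pos h]
    exact (H.exists_corner hr2 hG R (hd.rank R h) (hd.nondeg h)).choose_spec
  let f : Submodule (ZMod r) X → Module.End K E := fun P => H.conj (sel P) (f₀ (pick (orb P)))
  have hf : ∀ P ∈ s, H.Corner P (f P) := fun P hP =>
    H.corner_conj (hsel P) (hf₀ _ (hrs P hP))
  have hequiv : ∀ (g : G), ∀ P ∈ s, ∀ z, f P z = z →
      f (planeMap H.act g P) (H.op g z) = H.op g z := by
    intro g P hP z hz
    have hopinv : ∀ (a : G) (z : E), H.op a (H.op a⁻¹ z) = z := fun a z => by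
      rw [← Module.End.mul_apply, H.op_mul_inv, Module.End.one_apply]
    have hrep : pick (orb (planeMap H.act g P)) = pick (orb P) := by rw [horb]
    set R := pick (orb P) with hR
    set a := sel P with ha
    set b := sel (planeMap H.act g P) with hb
    have hbR : planeMap H.act b R = planeMap H.act g P := by
      rw [hb, ← hrep]; exact hsel _
    have hw : f₀ R (H.op a⁻¹ z) = H.op a⁻¹ z := by
      refine H.op_inj a ?_
      rw [← H.conj_op a (f₀ R), hopinv]
      exact hz
    have hst : ∀ x ∈ R, H.act (b⁻¹ * g * a) x ∈ R := fun x hx => by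
      refine planeMap_mem H.act ?_ hx
      rw [planeMap_mul, hsel P, planeMap_mul]
      exact planeMap_inv H.act hbR
    have h1 := (hf₀ R (hrs P hP)).stab _ hst _ hw
    have e : H.op b (H.op (b⁻¹ * g * a) (H.op a⁻¹ z)) = H.op g z := by
      rw [map_mul, map_mul, Module.End.mul_apply, Module.End.mul_apply, hopinv, hopinv]
    show H.conj b (f₀ (pick (orb (planeMap H.act g P)))) (H.op g z) = H.op g z
    rw [hrep, ← e, H.conj_op, h1]
  -- the common fixed space
  let N : Finset (Submodule (ZMod r) X) → Submodule K E := fun T =>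
    ⨅ P ∈ T, LinearMap.ker (f P - 1)
  have memN : ∀ T z, z ∈ N T ↔ ∀ P ∈ T, f P z = z := fun T z => by
    simp [N, Submodule.mem_iInf, sub_eq_zero]
  have hN : ∀ T ⊆ s, N T ≠ ⊥ := by
    intro T
    induction T using Finset.induction with
    | empty =>
      intro _ h
      obtain ⟨v, hv⟩ := exists_ne (0 : E)
      have : v ∈ N ∅ := (memN _ _).mpr (by simp)
      rw [h, Submodule.mem_bot] at this
      exact hv this
    | @insert Q T hQT ih =>
      intro hsub
      rw [Finset.insert_subset_iff] at hsub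
      have hinv : ∀ y ∈ H.A Q, ∀ z ∈ N T, y z ∈ N T := fun y hy z hz => by
        rw [memN] at hz ⊢
        intro P hP
        have hPQ : P ≠ Q := fun e => hQT (e ▸ hP)
        have hc : Commute (f P) y := H.commute_A
          (fun a ha b hb => hd.orth P (hsub.2 hP) Q hsub.1 hPQ a ha b hb) (hf P (hsub.2 hP)).mem hy
        rw [← Module.End.mul_apply, hc.eq, Module.End.mul_apply, hz P hP]
      obtain ⟨z, hz, hz0⟩ := (hf Q hsub.1).hit (N T) (ih hsub.2) hinv
      intro h
      have h1 : f Q z ∈ N (insert Q T) := (memN _ _).mpr fun P hP => by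
        rcases Finset.mem_insert.mp hP with rfl | hP'
        · rw [← Module.End.mul_apply, (hf P hsub.1).idem]
        · exact (memN _ _).mp (hinv _ (hf Q hsub.1).mem z hz) P hP'
      rw [h, Submodule.mem_bot] at h1
      exact hz0 h1
  have hNinv : ∀ g, ∀ z ∈ N s, H.op g z ∈ N s := fun g z hz => by
    rw [memN] at hz ⊢
    intro P hP
    have hP' := hd.perm g⁻¹ P hP
    have e : planeMap H.act g (planeMap H.act g⁻¹ P) = P := by
      rw [← planeMap_mul, mul_inv_cancel, planeMap_one]
    have h1 := hequiv g _ hP' z (hz _ hP')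
    rwa [e] at h1
  obtain ⟨φ, hφ, hφ0, hφf⟩ := exists_fixed_vector hG H.op (N s) (hN s subset_rfl) hNinv
  exact ⟨⟨hd, f, φ, hf, hequiv, (memN _ _).mp hφ, hφ0, hφf⟩⟩

namespace Frame

variable {H : Heis r K X E G} {s : Finset (Submodule (ZMod r) X)} (W : Frame H s)

/-- The line of the fixed vector. -/
def line : Submodule K E := Submodule.span K {W.phi}

theorem phi_mem_line : W.phi ∈ W.line := Submodule.mem_span_singleton_self _

theorem mem_line {z : E} : z ∈ W.line ↔ ∃ c : K, c • W.phi = z := Submodule.mem_span_singleton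

/-- The orbit of the fixed vector under the algebra of the whole section. -/
def space : Submodule K E := (H.A ⊤).map (LinearMap.applyₗ W.phi)

theorem mem_space {z : E} : z ∈ W.space ↔ ∃ y ∈ H.A (⊤ : Submodule (ZMod r) X), y W.phi = z :=
  Submodule.mem_map

/-- The vectors of the space fixed by the corners outside a set of planes. -/
def D (O : Set (Submodule (ZMod r) X)) : Submodule K E :=
  W.space ⊓ ⨅ P ∈ {P | P ∈ s ∧ P ∉ O}, LinearMap.ker (W.f P - 1)

theorem mem_D_iff {O : Set (Submodule (ZMod r) X)} {z : E} :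
    z ∈ W.D O ↔ z ∈ W.space ∧ ∀ P ∈ s, P ∉ O → W.f P z = z := by
  simp [D, Submodule.mem_iInf, sub_eq_zero]

theorem D_mono {O O' : Set (Submodule (ZMod r) X)} (h : O ⊆ O') : W.D O ≤ W.D O' := by
  intro z hz
  rw [mem_D_iff] at hz ⊢
  exact ⟨hz.1, fun P hP hn => hz.2 P hP fun h' => hn (h h')⟩

theorem phi_mem_D (O : Set (Submodule (ZMod r) X)) : W.phi ∈ W.D O :=
  (W.mem_D_iff).mpr ⟨W.mem_space.mpr ⟨1, H.one_mem_A _, rfl⟩, fun P hP _ => W.fix P hP⟩

theorem line_le_D (O : Set (Submodule (ZMod r) X)) : W.line ≤ W.D O :=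
  (Submodule.span_singleton_le_iff_mem _ _).mpr (W.phi_mem_D O)

theorem D_empty : W.D ∅ ≤ W.line := by
  classical
  have key : ∀ T ⊆ s, ∃ q ∈ H.A (T.sup id), (∀ z, (∀ P ∈ T, W.f P z = z) → q z = z) ∧
      ∀ y ∈ H.A (T.sup id), ∀ w, (∀ P ∈ T, W.f P w = w) → ∃ c : K, q (y w) = c • w := by
    intro T
    induction T using Finset.induction with
    | empty =>
      refine fun _ => ⟨1, H.one_mem_A _, fun z _ => rfl, fun y hy w _ => ?_⟩
      induction hy using Submodule.span_induction with
      | mem a ha =>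
        obtain ⟨a, ha, rfl⟩ := ha
        rw [Finset.sup_empty, SetLike.mem_coe, Submodule.mem_bot] at ha
        exact ⟨1, by rw [ha, H.eps_zero, one_smul]; rfl⟩
      | zero => exact ⟨0, by rw [LinearMap.zero_apply, map_zero, zero_smul]⟩
      | add a b _ _ ha hb =>
        obtain ⟨c, hc⟩ := ha
        obtain ⟨c', hc'⟩ := hb
        exact ⟨c + c', by rw [LinearMap.add_apply, map_add, hc, hc', add_smul]⟩
      | smul c a _ ha =>
        obtain ⟨c', hc'⟩ := ha
        exact ⟨c * c', by rw [LinearMap.smul_apply, map_smul, hc', smul_smul]⟩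
    | @insert Q T hQT ih =>
      intro hsub
      rw [Finset.insert_subset_iff] at hsub
      obtain ⟨q, hq, hqfix, hqy⟩ := ih hsub.2
      rw [Finset.sup_insert, id_eq]
      refine ⟨W.f Q * q, H.mul_mem_A (H.A_mono le_sup_left (W.corner Q hsub.1).mem)
        (H.A_mono le_sup_right hq), fun z hz => ?_, fun y hy w hw => ?_⟩
      · rw [Module.End.mul_apply, hqfix z fun P hP => hz P (Finset.mem_insert_of_mem hP),
          hz Q (Finset.mem_insert_self _ _)]
      have horth : ∀ a ∈ T.sup id, ∀ b ∈ Q, H.F.b a b = 1 := by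
        intro a ha b hb
        let O : Submodule (ZMod r) X :=
          { carrier := {y | H.F.b y b = 1}
            zero_mem' := H.F.zero_left b
            add_mem' := fun {p p'} hp hp' => by
              show H.F.b (p + p') b = 1
              rw [H.F.add_left, show H.F.b p b = 1 from hp, show H.F.b p' b = 1 from hp', one_mul]
            smul_mem' := fun c p hp => by
              show H.F.b (c • p) b = 1
              rw [H.F.smul_left, show H.F.b p b = 1 from hp, one_pow] }
        have hle : T.sup id ≤ O := Finset.sup_le fun P hP x hx =>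
          W.dec.orth P (hsub.2 hP) Q hsub.1 (fun e => hQT (e ▸ hP)) x hx b hb
        exact hle ha
      induction hy using Submodule.span_induction with
      | mem a ha =>
        obtain ⟨a, ha, rfl⟩ := ha
        obtain ⟨a₁, ha₁, a₂, ha₂, rfl⟩ := Submodule.mem_sup.mp ha
        obtain ⟨c, hc, he⟩ := H.eps_mul a₁ a₂
        obtain ⟨c₂, hc₂⟩ := hqy _ (H.eps_mem ha₂) w fun P hP => hw P (Finset.mem_insert_of_mem hP)
        obtain ⟨c₁, hc₁⟩ := (W.corner Q hsub.1).corner _ (H.eps_mem ha₁)
        have hcm : Commute q (H.eps a₁) := H.commute_A horth hq (H.eps_mem ha₁)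
        refine ⟨c⁻¹ * (c₂ * c₁), ?_⟩
        have e1 : W.f Q (H.eps a₁ w) = c₁ • w := by
          have h1 := LinearMap.congr_fun hc₁ w
          rwa [Module.End.mul_apply, Module.End.mul_apply, LinearMap.smul_apply,
            hw Q (Finset.mem_insert_self _ _)] at h1
        rw [show H.eps (a₁ + a₂) = c⁻¹ • (H.eps a₁ * H.eps a₂) by rw [he, inv_smul_smul₀ hc],
          LinearMap.smul_apply, map_smul, Module.End.mul_apply, Module.End.mul_apply,
          ← Module.End.mul_apply q, hcm.eq, Module.End.mul_apply, hc₂, map_smul, map_smul, e1,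
          smul_smul, smul_smul, mul_assoc]
      | zero => exact ⟨0, by rw [LinearMap.zero_apply, map_zero, zero_smul]⟩
      | add a b _ _ ha hb =>
        obtain ⟨c, hc⟩ := ha
        obtain ⟨c', hc'⟩ := hb
        exact ⟨c + c', by rw [LinearMap.add_apply, map_add, hc, hc', add_smul]⟩
      | smul c a _ ha =>
        obtain ⟨c', hc'⟩ := ha
        exact ⟨c * c', by rw [LinearMap.smul_apply, map_smul, hc', smul_smul]⟩
  obtain ⟨q, -, hqfix, hqy⟩ := key s subset_rfl
  intro z hz
  rw [mem_D_iff] at hz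
  obtain ⟨y, hy, rfl⟩ := W.mem_space.mp hz.1
  obtain ⟨c, hc⟩ := hqy y (by rw [W.dec.top]; exact hy) W.phi W.fix
  rw [hqfix _ fun P hP => hz.2 P hP (Set.notMem_empty P)] at hc
  exact W.mem_line.mpr ⟨c, hc.symm⟩

theorem D_inter {O O' : Set (Submodule (ZMod r) X)} (h : Disjoint O O') :
    W.D O ⊓ W.D O' ≤ W.line := by
  rintro z ⟨hz, hz'⟩
  rw [SetLike.mem_coe, mem_D_iff] at hz hz'
  refine W.D_empty (W.mem_D_iff.mpr ⟨hz.1, fun P hP _ => ?_⟩)
  by_cases hO : P ∈ O
  · exact hz'.2 P hP fun hO' => Set.disjoint_left.mp h hO hO'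
  · exact hz.2 P hP hO

theorem mem_D {O : Set (Submodule (ZMod r) X)} {P : Submodule (ZMod r) X} (hP : P ∈ s)
    (hPO : P ∈ O) {a : Module.End K E} (ha : a ∈ H.A P) : a W.phi ∈ W.D O := by
  refine W.mem_D_iff.mpr ⟨W.mem_space.mpr ⟨a, H.A_mono le_top ha, rfl⟩, fun Q hQ hQO => ?_⟩
  have hc : Commute (W.f Q) a := H.commute_A
    (fun x hx y hy => W.dec.orth Q hQ P hP (fun e => hQO (e ▸ hPO)) x hx y hy) (W.corner Q hQ).mem ha
  rw [← Module.End.mul_apply, hc.eq, Module.End.mul_apply, W.fix Q hQ]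

theorem nontrivial (W : Frame H s) : Nontrivial E := ⟨⟨W.phi, 0, W.ne_zero⟩⟩

theorem map_D (g : G) {O : Set (Submodule (ZMod r) X)} {z : E} (hz : z ∈ W.D O) :
    H.op g z ∈ W.D (planeMap H.act g '' O) := by
  haveI := W.nontrivial
  rw [mem_D_iff] at hz ⊢
  obtain ⟨y, hy, rfl⟩ := W.mem_space.mp hz.1
  refine ⟨W.mem_space.mpr ⟨H.conj g y, H.conj_mem_A g (fun a _ => Submodule.mem_top) hy, ?_⟩,
    fun P hP hn => ?_⟩
  · rw [H.conj_apply_fixed y (W.op_fix g)]
  · have hP' := W.dec.perm g⁻¹ P hP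
    have e : planeMap H.act g (planeMap H.act g⁻¹ P) = P := by
      rw [← planeMap_mul, mul_inv_cancel, planeMap_one]
    have h1 := W.equiv g _ hP' _ (hz.2 _ hP' fun h => hn ⟨_, h, e⟩)
    rwa [e] at h1

/-- A plane moves the fixed vector off its line. -/
theorem exists_nonscalar [Nontrivial E] [CharP K 2] [IsAlgClosed K] {P : Submodule (ZMod r) X}
    (hP : P ∈ s) : ∃ a ∈ H.A P, a W.phi ∉ W.line := by
  obtain ⟨U, V, ζ, hC⟩ := H.exists_clock P (W.dec.rank P hP) (W.dec.nondeg hP)
  by_contra hcon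
  push Not at hcon
  obtain ⟨α, hα⟩ := W.mem_line.mp (hcon U hC.memU)
  obtain ⟨β, hβ⟩ := W.mem_line.mp (hcon V hC.memV)
  have hpow : ∀ {T : Module.End K E} {c : K}, T W.phi = c • W.phi → T ^ r = 1 → c ≠ 0 := by
    intro T c hc hr h0
    have h1 := LinearMap.congr_fun hr W.phi
    obtain ⟨n, hn⟩ : ∃ n, r = n + 1 := ⟨r - 1, by have := (Fact.out : r.Prime).one_le; omega⟩
    rw [show T ^ r = T ^ n * T by rw [← pow_succ, ← hn], Module.End.mul_apply, hc, h0,
      zero_smul, map_zero] at h1
    exact W.ne_zero h1.symm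
  have h := LinearMap.congr_fun hC.clock.comm W.phi
  rw [LinearMap.smul_apply, Module.End.mul_apply, Module.End.mul_apply, ← hα, ← hβ, map_smul,
    map_smul, ← hα, ← hβ, smul_smul, smul_smul, smul_smul, mul_assoc, mul_comm α β] at h
  have h1 : β * α = ζ * (β * α) := smul_left_injective K W.ne_zero h
  exact hC.clock.zeta_ne_one ((mul_eq_right₀ (mul_ne_zero (hpow hβ.symm hC.clock.Vr)
    (hpow hα.symm hC.clock.Ur))).mp h1.symm)

/-- Some earlier derived subgroup moves the plane. -/
def Good (act : G →* (X ≃ₗ[ZMod r] X)) (j : ℕ) (P : Submodule (ZMod r) X) : Prop :=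
  j = 0 ∨ ∃ g ∈ derivedSeries G (j - 1), planeMap act g P ≠ P

/-- The orbit of a plane under a derived subgroup. -/
def orbitSet (act : G →* (X ≃ₗ[ZMod r] X)) (j : ℕ) (P : Submodule (ZMod r) X) :
    Set (Submodule (ZMod r) X) :=
  {Q | ∃ g ∈ derivedSeries G j, planeMap act g P = Q}

theorem chain_claim [Finite G] (hG : IsPGroup 2 G) (Kc : ℕ → Submodule K E) (h0 : Kc 0 = ⊥)
    (hstep : ∀ j, ∀ g ∈ derivedSeries G j, ∀ z ∈ Kc (j + 1), H.op g z - z ∈ Kc j) :
    ∀ (j : ℕ) (P : Submodule (ZMod r) X), P ∈ s → Good H.act j P →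
      W.D (orbitSet H.act j P) ⊓ Kc j ≤ W.line := by
  haveI := Fact.mk Nat.prime_two
  intro j
  induction j with
  | zero =>
    intro P _ _ z hz
    have h : z ∈ Kc 0 := hz.2
    rw [h0, Submodule.mem_bot] at h
    rw [h]; exact zero_mem _
  | succ j ih =>
    intro P hP hgood z hz
    obtain ⟨h, hh, hne⟩ := hgood.resolve_left (Nat.succ_ne_zero j)
    rw [Nat.add_sub_cancel] at hh
    have hgood' : Good H.act j P := by
      rcases Nat.eq_zero_or_pos j with hj | hj
      · exact Or.inl hj
      · exact Or.inr ⟨h, derivedSeries_antitone G (Nat.sub_le j 1) hh, hne⟩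
    -- a normal subgroup containing the stabiliser and the next derived subgroup
    set Hj := derivedSeries G j with hHj
    let St : Subgroup Hj :=
      { carrier := {g | planeMap H.act (g : G) P = P}
        one_mem' := planeMap_one _ _
        mul_mem' := fun {a b} ha hb => by
          show planeMap H.act ((a : G) * b) P = P
          rw [planeMap_mul, show planeMap H.act (b : G) P = P from hb]; exact ha
        inv_mem' := fun {a} ha => planeMap_inv H.act ha }
    have hSt : St ≠ ⊤ := fun e => hne (e.ge (Subgroup.mem_top (⟨h, hh⟩ : Hj)))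
    obtain ⟨M, hM, hStM⟩ := (eq_top_or_exists_le_coatom St).resolve_left hSt
    haveI : Group.IsNilpotent Hj := (hG.to_subgroup Hj).isNilpotent
    haveI hMn : M.Normal := Subgroup.NormalizerCondition.normal_of_coatom M
      Group.normalizerCondition_of_isNilpotent hM
    obtain ⟨g, hg⟩ := SetLike.exists_not_mem_of_ne_top M hM.1
    have hcom : commutator Hj ≤ M := by
      refine hMn.commutator_le_of_self_sup_commutative_eq_top (H := Subgroup.zpowers g) ?_ inferInstance
      exact hM.2 _ (lt_of_le_of_ne le_sup_left fun e => hg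
        (e.ge (le_sup_right (a := M) (Subgroup.mem_zpowers g))))
    set O : Set (Submodule (ZMod r) X) := {Q | ∃ m ∈ M, planeMap H.act (m : G) P = Q} with hO
    have hsub : orbitSet H.act (j + 1) P ⊆ O := by
      rintro Q ⟨a, ha, rfl⟩
      rw [derivedSeries_succ] at ha
      have e : ⁅derivedSeries G j, derivedSeries G j⁆ = (commutator Hj).map Hj.subtype := by
        rw [commutator_def, Subgroup.map_commutator, ← MonoidHom.range_eq_map,
          Subgroup.range_subtype]
      rw [e] at ha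
      obtain ⟨a, ha, rfl⟩ := ha
      exact ⟨a, hcom ha, rfl⟩
    have hOj : O ⊆ orbitSet H.act j P := by
      rintro Q ⟨m, -, rfl⟩
      exact ⟨m, m.2, rfl⟩
    have hgOj : planeMap H.act (g : G) '' O ⊆ orbitSet H.act j P := by
      rintro _ ⟨_, ⟨m, -, rfl⟩, rfl⟩
      exact ⟨(g : G) * m, mul_mem g.2 m.2, planeMap_mul _ _ _ _⟩
    have hdisj : Disjoint (planeMap H.act (g : G) '' O) O := by
      rw [Set.disjoint_left]
      rintro _ ⟨_, ⟨m₁, hm₁, rfl⟩, rfl⟩ ⟨m₂, hm₂, he⟩
      have hmem : m₂⁻¹ * g * m₁ ∈ St := by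
        show planeMap H.act ((m₂⁻¹ * g * m₁ : Hj) : G) P = P
        rw [Subgroup.coe_mul, Subgroup.coe_mul, Subgroup.coe_inv, planeMap_mul, planeMap_mul]
        exact planeMap_inv H.act he
      refine hg ?_
      have h1 := mul_mem (mul_mem hm₂ (hStM hmem)) (inv_mem hm₁)
      rwa [show m₂ * (m₂⁻¹ * g * m₁) * m₁⁻¹ = g by group] at h1
    -- the displacement of `z` by `g`
    have hzO : z ∈ W.D O := W.D_mono hsub hz.1
    have hgz : H.op (g : G) z ∈ W.D (planeMap H.act (g : G) '' O) := W.map_D _ hzO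
    have hd : H.op (g : G) z - z ∈ W.line := ih P hP hgood'
      ⟨sub_mem (W.D_mono hgOj hgz) (W.D_mono hOj hzO), hstep j g g.2 z hz.2⟩
    have hgzO : H.op (g : G) z ∈ W.D O := by
      have h1 := add_mem (W.line_le_D O hd) hzO
      rwa [sub_add_cancel] at h1
    have h2 := sub_mem (W.D_inter hdisj ⟨hgz, hgzO⟩) hd
    rwa [sub_sub_cancel] at h2

/-- The chain claim at a plane fixed by the derived subgroup. -/
theorem chain_fixed [Finite G] (hG : IsPGroup 2 G) (Kc : ℕ → Submodule K E) (h0 : Kc 0 = ⊥)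
    (hstep : ∀ j, ∀ g ∈ derivedSeries G j, ∀ z ∈ Kc (j + 1), H.op g z - z ∈ Kc j) {j : ℕ}
    {P : Submodule (ZMod r) X} (hP : P ∈ s) (hgood : Good H.act j P) {y : Module.End K E}
    (hy : y ∈ H.A P) (hyK : y W.phi ∈ Kc j) : ∃ c : K, y W.phi = c • W.phi := by
  have hPO : P ∈ orbitSet H.act j P := ⟨1, one_mem _, planeMap_one _ _⟩
  obtain ⟨c, hc⟩ := W.mem_line.mp
    (W.chain_claim hG Kc h0 hstep j P hP hgood ⟨W.mem_D hP hPO hy, hyK⟩)
  exact ⟨c, hc.symm⟩

include W in
/-- The last derived subgroup of a chain moves no plane. -/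
theorem fixed_of_top [Nontrivial E] [CharP K 2] [IsAlgClosed K] [Finite G] (hG : IsPGroup 2 G)
    (Kc : ℕ → Submodule K E) (h0 : Kc 0 = ⊥)
    (hstep : ∀ j, ∀ g ∈ derivedSeries G j, ∀ z ∈ Kc (j + 1), H.op g z - z ∈ Kc j) {e : ℕ}
    (he : 1 ≤ e) (htop : Kc e = ⊤) {P : Submodule (ZMod r) X} (hP : P ∈ s) :
    ∀ g ∈ derivedSeries G (e - 1), planeMap H.act g P = P := by
  intro g hg
  by_contra hne
  obtain ⟨a, ha, hna⟩ := W.exists_nonscalar hP
  obtain ⟨c, hc⟩ := W.chain_fixed hG Kc h0 hstep hP (Or.inr ⟨g, hg, hne⟩) ha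
    (htop ▸ Submodule.mem_top)
  exact hna (W.mem_line.mpr ⟨c, hc.symm⟩)

end Frame

section Dual

variable [Nontrivial E]

/-- The contragredient setting. -/
noncomputable def Heis.dual (H : Heis r K X E G) : Heis r K X (Module.Dual K E) G where
  F :=
    { b := fun a b => H.F.b b a
      add_left := fun a a' b => H.F.add_right b a a'
      add_right := fun a b b' => H.F.add_left b b' a
      self := H.F.self
      ne_zero := fun a b => H.F.ne_zero b a
      nondeg := fun a h => H.F.nondeg a fun b => H.F.orth_symm (h b) }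
  eps a := (H.eps (-a)).dualMap
  eps_zero := by rw [neg_zero, H.eps_zero]; rfl
  eps_mul a b := by
    obtain ⟨c, hc, he⟩ := H.eps_mul (-b) (-a)
    refine ⟨c, hc, ?_⟩
    rw [show (H.eps (-a)).dualMap * (H.eps (-b)).dualMap = (H.eps (-b) * H.eps (-a)).dualMap from rfl,
      he, show -b + -a = -(a + b) by abel]
    exact LinearMap.ext fun p => LinearMap.ext fun v => by simp
  eps_comm a b := by
    have hbn : ∀ p q : X, H.F.b (-p) (-q) = H.F.b p q := fun p q => by
      have h1 := H.F.add_left (-p) p (-q)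
      rw [neg_add_cancel, H.F.zero_left] at h1
      have h2 := H.F.add_right p (-q) q
      rw [neg_add_cancel, H.F.zero_right] at h2
      calc H.F.b (-p) (-q) = H.F.b (-p) (-q) * (H.F.b p (-q) * H.F.b p q) := by rw [← h2, mul_one]
        _ = (H.F.b (-p) (-q) * H.F.b p (-q)) * H.F.b p q := by ring
        _ = _ := by rw [← h1, one_mul]
    rw [show (H.eps (-a)).dualMap * (H.eps (-b)).dualMap = (H.eps (-b) * H.eps (-a)).dualMap from rfl,
      show (H.eps (-b)).dualMap * (H.eps (-a)).dualMap = (H.eps (-a) * H.eps (-b)).dualMap from rfl,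
      H.eps_comm (-b) (-a), hbn]
    exact LinearMap.ext fun p => LinearMap.ext fun v => by simp
  act := H.act
  act_iso g a b := H.act_iso g b a
  op :=
    { toFun := fun g => (H.op g⁻¹).dualMap
      map_one' := by rw [inv_one, map_one]; rfl
      map_mul' := fun a b => by rw [mul_inv_rev, map_mul]; rfl }
  op_eps g a := by
    obtain ⟨c, hc⟩ := H.op_eps g⁻¹ (-H.act g a)
    have ea : H.act g⁻¹ (-H.act g a) = -a := by
      rw [map_neg, ← LinearEquiv.mul_apply, ← map_mul, inv_mul_cancel, map_one]; rfl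
    rw [ea] at hc
    have hc0 : c ≠ 0 := fun h0 => H.eps_ne_zero (-H.act g a) (LinearMap.ext fun v => H.op_inj g⁻¹ (by
      rw [h0, zero_smul] at hc
      rw [LinearMap.zero_apply, map_zero]
      exact LinearMap.congr_fun hc v))
    refine ⟨c⁻¹, ?_⟩
    show (H.eps (-a) * H.op g⁻¹).dualMap = c⁻¹ • ((H.op g⁻¹ * H.eps (-H.act g a)).dualMap)
    rw [hc]
    exact LinearMap.ext fun p => LinearMap.ext fun v => by simp [hc0]

theorem Heis.dual_act (H : Heis r K X E G) : H.dual.act = H.act := rfl

theorem Heis.dual_b (H : Heis r K X E G) (a b : X) : H.dual.F.b a b = H.F.b b a := rfl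

theorem Heis.dual_op (H : Heis r K X E G) (g : G) : H.dual.op g = (H.op g⁻¹).dualMap := rfl

theorem Heis.dual_planeDec {H : Heis r K X E G} {s : Finset (Submodule (ZMod r) X)}
    (hd : PlaneDec H.F H.act s) : PlaneDec H.dual.F H.dual.act s :=
  ⟨hd.rank, fun P hP Q hQ hne a ha b hb => hd.orth Q hQ P hP hne.symm b hb a ha, hd.top, hd.perm⟩

theorem Heis.dual_chain {H : Heis r K X E G} {e : ℕ} {V : ℕ → Submodule K E}
    (hV : DerivedChain H.op e V) :
    (V 0).dualAnnihilator = ⊥ ∧ (V e).dualAnnihilator = ⊤ ∧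
      ∀ j, ∀ g ∈ derivedSeries G j, ∀ p ∈ (V (j + 1)).dualAnnihilator,
        H.dual.op g p - p ∈ (V j).dualAnnihilator := by
  refine ⟨by rw [hV.top, Submodule.dualAnnihilator_top],
    by rw [hV.bot, Submodule.dualAnnihilator_bot], fun j g hg p hp => ?_⟩
  rw [Submodule.mem_dualAnnihilator] at hp ⊢
  intro v hv
  have h1 := hp _ (hV.step j g⁻¹ (inv_mem hg) v hv)
  rw [map_sub] at h1
  exact h1

end Dual

end H12.DL
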